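/-
The order of an element in a certified representation.
-/
import Cfsg.Agent.Lib.CosetEnum.Lower
import Cfsg.Agent.Lib.CosetEnum.Fi31671.Data

set_option autoImplicit false
set_option maxRecDepth 1000000

namespace CfsgLib.CosetEnum.Fi23Chain

open CfsgLib.CosetEnum CfsgLib.CosetEnum.Fi31671

theorem zq4 : allN 2000 (fun i => force (Nat.add 8000 i) fun d' =>
    Nat.beq (runT table 10 (List.replicate 17 [5, 7, 3, 1, 6, 4, 1, 0, 5, 8, 2, 5, 4, 7, 4, 1, 7]).flatten d') d') = true := by decide +kernel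

theorem zq5 : allN 2000 (fun i => force (Nat.add 10000 i) fun d' =>
    Nat.beq (runT table 10 (List.replicate 17 [5, 7, 3, 1, 6, 4, 1, 0, 5, 8, 2, 5, 4, 7, 4, 1, 7]).flatten d') d') = true := by decide +kernel

end CfsgLib.CosetEnum.Fi23Chain
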