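/-
The order of an element in a certified representation.
-/
import Cfsg.Agent.Lib.CosetEnum.Fi23Chain.Zq0
import Cfsg.Agent.Lib.CosetEnum.Fi23Chain.Zq1
import Cfsg.Agent.Lib.CosetEnum.Fi23Chain.Zq2
import Cfsg.Agent.Lib.CosetEnum.Fi23Chain.Zq3
import Cfsg.Agent.Lib.CosetEnum.Fi23Chain.Zq4
import Cfsg.Agent.Lib.CosetEnum.Fi23Chain.Zq5
import Cfsg.Agent.Lib.CosetEnum.Fi23Chain.Zq6
import Cfsg.Agent.Lib.CosetEnum.Fi23Chain.Zq7

set_option autoImplicit false
set_option maxRecDepth 1000000

namespace CfsgLib.CosetEnum.Fi23Chain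

open CfsgLib.CosetEnum CfsgLib.CosetEnum.Fi31671

theorem allN_of_forall {f : ℕ → Bool} : ∀ {m : ℕ}, (∀ i < m, f i = true) → allN m f = true := by
  intro m
  induction m with
  | zero => intro _; rfl
  | succ m ih =>
    intro h
    show (f m && allN m f) = true
    rw [h m (Nat.lt_succ_self m), ih fun i hi => h i (Nat.lt_succ_of_lt hi)]
    rfl

theorem extend {g : ℕ → Bool} {lo m : ℕ} (h : allN m (fun i => force (Nat.add lo i) g) = true)
    (hlo : ∀ d < lo, g d = true) : ∀ d < lo + m, g d = true := by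
  intro d hd
  by_cases hd' : d < lo
  · exact hlo d hd'
  · have := allN_spec h (d - lo) (by omega)
    rwa [force_eq, show Nat.add lo (d - lo) = d by show lo + (d - lo) = d; omega] at this

theorem zq : allN 31671 (fun d => force d fun d' =>
    Nat.beq (runT table 10 (List.replicate 17 [5, 7, 3, 1, 6, 4, 1, 0, 5, 8, 2, 5, 4, 7, 4, 1, 7]).flatten d') d') = true := by
  refine allN_of_forall fun d hd => ?_
  rw [force_eq]
  revert d
  exact (extend zq15 (extend zq14 (extend zq13 (extend zq12 (extend zq11 (extend zq10 (extend zq9 (extend zq8 (extend zq7 (extend zq6 (extend zq5 (extend zq4 (extend zq3 (extend zq2 (extend zq1 (extend zq0 (fun d hd => absurd hd (Nat.not_lt_zero d))))))))))))))))))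

end CfsgLib.CosetEnum.Fi23Chain
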